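import Cfsg.Prelude.Def_Transfer
import Cfsg.Prelude.Def_LocalEven
import Cfsg.Agent.H440.MinimalAction
import Cfsg.Agent.SignalizersComponents.CoprimeGen
import Cfsg.Agent.PLocal.S4FreeNoS3
import Cfsg.Prelude.Def_Local
import Cfsg.Agent.Lib.Cores
import Cfsg.Agent.Lib.Involves
import Cfsg.Agent.S0029
import Cfsg.Agent.Solvable.Glauberman
import Cfsg.Agent.PLocal.Constrained
import Cfsg.Agent.PLocal.HallHigmanPrime
import Cfsg.Agent.PLocal.PSolvable
set_option linter.all false

-- part: H440/CyclicNormal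
section
/-!
# An element `a` with `[V, a] ≤ ⟨a⟩` (towards cyclic normal subgroups of Sylow `p`-subgroups)

`V` is a self-centralising normal elementary abelian `p`-subgroup, `Q` a `p'`-subgroup, `a = o n` with
`o ∈ V` and `n` normalising `Q`, and `[V, a] ≤ ⟨a⟩`.  If `p` is odd (or `p = 2` and the group has no
section `S₄`) then `n` centralises `Q`.
-/

set_option autoImplicit false
set_option linter.style.haveILetI false

namespace Cfsg.Agent.H440.CyclicNormal

open Subgroup
open scoped commutatorElement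
open Cfsg.Agent.SignalizersComponents.GoldschmidtGen (le_normalizer_of_conj_mem
  conj_mem_of_le_normalizer le_normalizer_sup le_normalizer_of_commutator_le)
open Cfsg.Agent.SignalizersComponents.CoprimeGen (actTriv mem_actTriv)

universe u

/-- Two transvections `τ`, `σ` with `(σ τ) ^ 4 ≠ 1` generate an `S₃` on their centres. -/
theorem two_transvections {V : Type*} [CommGroup V] (hV : ∀ v : V, v * v = 1) (τ σ : MulAut V)
    (c d : V) (hτ : ∀ v, τ v = v ∨ τ v = v * c) (hσ : ∀ v, σ v = v ∨ σ v = v * d)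
    (hτc : τ c = c) (hσd : σ d = d) (hne : (σ * τ) ^ 4 ≠ 1) :
    c ≠ 1 ∧ d ≠ 1 ∧ c ≠ d ∧ σ c = c * d ∧ τ d = d * c := by
  have hc2 : c * c = 1 := hV c
  have hd2 : d * d = 1 := hV d
  -- if `(σ τ) ^ 2` is trivial on `c` and `d` then `(σ τ) ^ 4 = 1`
  have key : (σ * τ) ((σ * τ) c) = c → (σ * τ) ((σ * τ) d) = d → (σ * τ) ^ 4 = 1 := by
    intro h1 h2
    have h3 : ∀ v, ∃ w, (σ * τ) v = v * w ∧ (σ * τ) ((σ * τ) w) = w := by
      intro v
      have e1 : (σ * τ) v = σ (τ v) := rfl
      rcases hτ v with h | h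
      · rcases hσ v with h' | h'
        · exact ⟨1, by rw [e1, h, h', mul_one], by simp⟩
        · exact ⟨d, by rw [e1, h, h'], h2⟩
      · rcases hσ (v * c) with h' | h'
        · exact ⟨c, by rw [e1, h, h'], h1⟩
        · exact ⟨c * d, by rw [e1, h, h', mul_assoc], by rw [map_mul, map_mul, h1, h2]⟩
    ext v
    have e2 : ((σ * τ) ^ 4) v = (σ * τ) ((σ * τ) ((σ * τ) ((σ * τ) v))) := by
      simp only [pow_succ, pow_zero, one_mul, MulAut.mul_apply]
    obtain ⟨w, hw, hw2⟩ := h3 v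
    obtain ⟨w', hw', hw2'⟩ := h3 w
    rw [e2, MulAut.one_apply]
    have s2 : (σ * τ) ((σ * τ) v) = v * (w * (w * w')) := by
      rw [hw, map_mul, hw, hw', mul_assoc]
    have s2' : (σ * τ) ((σ * τ) v) = v * w' := by
      rw [s2, ← mul_assoc w w w', hV w, one_mul]
    rw [s2', map_mul, map_mul, s2', hw2', mul_assoc, hV w', mul_one]
  have hσc : σ c = c * d := by
    rcases hσ c with h | h
    · exfalso
      apply hne
      have e1 : (σ * τ) c = c := by
        show σ (τ c) = c
        rw [hτc, h]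
      have e2 : (σ * τ) d = d ∨ (σ * τ) d = d * c := by
        rcases hτ d with h' | h'
        · left; show σ (τ d) = d; rw [h', hσd]
        · right; show σ (τ d) = d * c; rw [h', map_mul, hσd, h]
      apply key
      · rw [e1, e1]
      · rcases e2 with e2 | e2
        · rw [e2, e2]
        · rw [e2, map_mul, e2, e1, mul_assoc, hc2, mul_one]
    · exact h
  have hτd : τ d = d * c := by
    rcases hτ d with h | h
    · exfalso
      apply hne
      have e1 : (σ * τ) d = d := by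
        show σ (τ d) = d
        rw [h, hσd]
      have e2 : (σ * τ) c = c * d := by
        show σ (τ c) = c * d
        rw [hτc, hσc]
      apply key
      · rw [e2, map_mul, e2, e1, mul_assoc, hd2, mul_one]
      · rw [e1, e1]
    · exact h
  have hc1 : c ≠ 1 := by
    rintro rfl
    rw [map_one, one_mul] at hσc
    rw [← hσc, map_one, one_mul] at hτd
    apply hne
    apply key
    · simp
    · rw [← hσc]; simp
  have hd1 : d ≠ 1 := by
    rintro rfl
    rw [map_one, one_mul] at hτd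
    exact hc1 hτd.symm
  refine ⟨hc1, hd1, ?_, hσc, hτd⟩
  rintro rfl
  rw [hτc, hc2] at hτd
  exact hc1 hτd

section Core

variable {Y : Type u} [Group Y] [Finite Y] {p : ℕ} [hp : Fact p.Prime] {V Q : Subgroup Y}

omit [Finite Y] in
/-- Powers of `a` in `V` are powers of `a ^ p`. -/
theorem zpow_mem_of_mem {a : Y} (hap : a ^ p ∈ V) (haV : a ∉ V) (i : ℤ) (hi : a ^ i ∈ V) :
    a ^ i ∈ zpowers (a ^ p) := by
  by_cases hdvd : (p : ℤ) ∣ i
  · obtain ⟨j, rfl⟩ := hdvd
    rw [zpow_mul, zpow_natCast]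
    exact zpow_mem (mem_zpowers _) j
  · exfalso
    apply haV
    have hcop : IsCoprime (p : ℤ) i :=
      ((Nat.prime_iff_prime_int.1 hp.out).coprime_iff_not_dvd).2 hdvd
    obtain ⟨u, w, huw⟩ := hcop
    have h1 : a = (a ^ p) ^ u * (a ^ i) ^ w := by
      rw [← zpow_natCast, ← zpow_mul, ← zpow_mul, ← zpow_add, mul_comm _ u, mul_comm _ w, huw,
        zpow_one]
    rw [h1]
    exact mul_mem (zpow_mem hap u) (zpow_mem hi w)

/-- The main lemma. -/
theorem core [hVn : V.Normal] (hV : Cfsg.IsElementaryAbelian p V)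
    (hCV : centralizer (V : Set Y) ≤ V) (hQp : (Nat.card Q).Coprime p)
    {a n o : Y} (ho : o ∈ V) (hao : a = o * n) (hnQ : n ∈ normalizer (Q : Set Y))
    (hVa : ∀ v ∈ V, ⁅v, a⁆ ∈ zpowers a)
    (h : p ≠ 2 ∨ ¬ Cfsg.Involves (Equiv.Perm (Fin 4)) Y) :
    ∀ x ∈ Q, x * n = n * x := by
  classical
  have hVc : ∀ v ∈ V, ∀ w ∈ V, v * w = w * v := fun v hv w hw =>
    congrArg Subtype.val (hV.1.is_comm.comm (⟨v, hv⟩ : V) ⟨w, hw⟩)
  haveI : Finite V := inferInstance
  have hVp : IsPGroup p V := fun v => ⟨1, by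
    apply Subtype.ext; rw [pow_one]; exact hV.2 v v.2⟩
  have hcopQV : (Nat.card Q).Coprime (Nat.card V) := by
    obtain ⟨k, hk⟩ := IsPGroup.iff_card.mp hVp
    rw [hk]; exact Nat.Coprime.pow_right k hQp
  have hQV : Q ⊓ V = ⊥ := (Subgroup.disjoint_of_coprime_natCard hcopQV).eq_bot
  have hconj : ∀ v ∈ V, ∀ g : Y, g * v * g⁻¹ ∈ V := fun v hv g => hVn.conj_mem v hv g
  have hQnV : Q ≤ normalizer (V : Set Y) := by rw [normalizer_eq_top]; exact le_top
  have hn : n = o⁻¹ * a := by rw [hao]; group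
  have haV' : ∀ v ∈ V, ⁅v, a⁆ ∈ V := by
    intro v hv
    have h1 : ⁅v, a⁆ = v * (a * v⁻¹ * a⁻¹) := by simp only [commutatorElement_def]; group
    rw [h1]
    exact mul_mem hv (hconj _ (inv_mem hv) a)
  -- the case `a ∈ V`
  by_cases haV : a ∈ V
  · have hnV : n ∈ V := by rw [hn]; exact mul_mem (inv_mem ho) haV
    intro x hx
    have h1 : ⁅x, n⁆ ∈ Q ⊓ V := by
      refine mem_inf.mpr ⟨?_, ?_⟩
      · have h2 : ⁅x, n⁆ = x * (n * x⁻¹ * n⁻¹) := by simp only [commutatorElement_def]; group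
        rw [h2]
        exact mul_mem hx ((mem_normalizer_iff.mp hnQ _).mp (inv_mem hx))
      · have h2 : ⁅x, n⁆ = (x * n * x⁻¹) * n⁻¹ := by simp only [commutatorElement_def]
        rw [h2]
        exact mul_mem (hconj n hnV x) (inv_mem hnV)
    rw [hQV, mem_bot, commutatorElement_eq_one_iff_mul_comm] at h1
    exact h1
  -- commutation with `a`
  have hza : ∀ v ∈ V, Commute ⁅v, a⁆ a := by
    intro v hv
    obtain ⟨i, hi⟩ := mem_zpowers_iff.mp (hVa v hv)
    rw [← hi]
    exact Commute.zpow_left (Commute.refl a) i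
  have hapV : a ^ p ∈ V := by
    apply hCV
    rw [mem_centralizer_iff]
    intro v hv
    have h1 : v * a * v⁻¹ = ⁅v, a⁆ * a := by simp only [commutatorElement_def]; group
    have h2 : v * a ^ p * v⁻¹ = a ^ p := by
      rw [← conj_pow, h1, (hza v hv).mul_pow, hV.2 _ (haV' v hv), one_mul]
    calc v * a ^ p = (v * a ^ p * v⁻¹) * v := by group
      _ = a ^ p * v := by rw [h2]
  have hVaT : ∀ v ∈ V, ⁅v, a⁆ ∈ zpowers (a ^ p) := by
    intro v hv
    obtain ⟨i, hi⟩ := mem_zpowers_iff.mp (hVa v hv)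
    have h1 := haV' v hv
    rw [← hi] at h1 ⊢
    exact zpow_mem_of_mem hapV haV i h1
  -- `n` acts on `V` as `a` does
  have hVn' : ∀ v ∈ V, n * v * n⁻¹ = a * v * a⁻¹ := by
    intro v hv
    have h1 := hVc _ (inv_mem ho) _ (hconj v hv a)
    calc n * v * n⁻¹ = o⁻¹ * (a * v * a⁻¹) * o := by rw [hn]; group
      _ = (a * v * a⁻¹) * o⁻¹ * o := by rw [h1]
      _ = a * v * a⁻¹ := by group
  have hTV : zpowers (a ^ p) ≤ V := by rw [zpowers_le]; exact hapV
  by_cases hp2 : p ≠ 2
  · -- `a ^ p = n ^ p`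
    have hz1 : n * o * n⁻¹ * o⁻¹ = ⁅o, a⁆⁻¹ := by
      rw [hVn' o ho]; simp only [commutatorElement_def]; group
    have hzV : ⁅o, a⁆⁻¹ ∈ V := inv_mem (haV' o ho)
    have hpn : a ^ p = n ^ p := by
      have e1 : n * o = ⁅o, a⁆⁻¹ * (o * n) := by rw [← hz1]; group
      have e2 : Commute ⁅o, a⁆⁻¹ o := hVc _ hzV _ ho
      have e3 : Commute ⁅o, a⁆⁻¹ n := by
        rw [hn]
        exact (Commute.inv_right e2).mul_right (hza o ho).inv_left
      have e4 := Lib.CoprimeStab.mul_pow_class_two e1 e2 e3 p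
      rw [← hao] at e4
      rw [e4, hV.2 o ho, one_mul]
      have hdvd : p ∣ p.choose 2 := hp.out.dvd_choose_self (by norm_num)
        (lt_of_le_of_ne hp.out.two_le (Ne.symm hp2))
      obtain ⟨k, hk⟩ := hdvd
      rw [hk, pow_mul, hV.2 _ hzV, one_pow, one_mul]
    -- `a ^ p` centralises `Q`
    have hTQ : zpowers (a ^ p) ≤ centralizer (Q : Set Y) := by
      rw [zpowers_le, mem_centralizer_iff]
      intro x hx
      have h1 : ⁅x, a ^ p⁆ ∈ Q ⊓ V := by
        refine mem_inf.mpr ⟨?_, ?_⟩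
        · have h2 : ⁅x, a ^ p⁆ = x * (a ^ p * x⁻¹ * (a ^ p)⁻¹) := by
            simp only [commutatorElement_def]; group
          rw [h2]
          refine mul_mem hx ((mem_normalizer_iff.mp ?_ _).mp (inv_mem hx))
          rw [hpn]; exact pow_mem hnQ p
        · have h2 : ⁅x, a ^ p⁆ = (x * a ^ p * x⁻¹) * (a ^ p)⁻¹ := by
            simp only [commutatorElement_def]
          rw [h2]
          exact mul_mem (hconj _ hapV x) (inv_mem hapV)
      rw [hQV, mem_bot, commutatorElement_eq_one_iff_mul_comm] at h1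
      exact h1
    -- three subgroups
    have hnact : zpowers n ≤ actTriv (zpowers (a ^ p)) V := by
      rw [zpowers_le, mem_actTriv]
      refine ⟨?_, by rw [normalizer_eq_top]; exact mem_top _, ?_⟩
      · have hcomm : Commute n (a ^ p) := by rw [hpn]; exact (Commute.refl n).pow_right p
        have hle : zpowers n ≤ normalizer ((zpowers (a ^ p) : Subgroup Y) : Set Y) := by
          apply le_normalizer_of_conj_mem
          intro g hg x hx
          obtain ⟨i, rfl⟩ := mem_zpowers_iff.mp hg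
          obtain ⟨j, rfl⟩ := mem_zpowers_iff.mp hx
          have h1 : Commute (n ^ i) ((a ^ p) ^ j) := (hcomm.zpow_left i).zpow_right j
          rw [h1.eq, mul_assoc, mul_inv_cancel, mul_one]
          exact zpow_mem (mem_zpowers _) j
        exact hle (mem_zpowers n)
      · intro v hv
        have h1 : ⁅n, v⁆ = ⁅v, a⁆⁻¹ := by
          have : ⁅n, v⁆ = (n * v * n⁻¹) * v⁻¹ := by simp only [commutatorElement_def]
          rw [this, hVn' v hv]; simp only [commutatorElement_def]; group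
        rw [h1]
        exact inv_mem (hVaT v hv)
    have hNV : ⁅zpowers n, V⁆ ≤ zpowers (a ^ p) := by
      rw [commutator_le]
      intro g hg v hv
      exact (hnact hg).2.2 v hv
    have hNV2 : ⁅zpowers n, V⁆ ≤ V ⊓ centralizer (Q : Set Y) := hNV.trans (le_inf hTV hTQ)
    have hNQ : zpowers n ≤ normalizer (Q : Set Y) := by rw [zpowers_le]; exact hnQ
    have hNnV : zpowers n ≤ normalizer (V : Set Y) := by rw [normalizer_eq_top]; exact le_top
    have t1 : ⁅⁅zpowers n, V⁆, Q⁆ = ⊥ := by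
      rw [commutator_eq_bot_iff_le_centralizer]
      exact hNV2.trans inf_le_right
    have hVQV : ⁅V, Q⁆ ≤ V := Lib.CoprimeCommutator.commutator_le_left hQnV
    have t2 : ⁅⁅V, Q⁆, zpowers n⁆ = ⊥ := by
      rw [eq_bot_iff, ← Lib.CoprimeAbelian.inf_commutator_eq_bot Q V hVc hQnV hcopQV]
      refine le_inf ?_ ?_
      · refine le_trans ?_ hNV2
        rw [commutator_comm (zpowers n) V]
        exact commutator_mono hVQV le_rfl
      · exact Lib.CoprimeCommutator.commutator_le_left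
          (MinimalAction.le_normalizer_commutator hNnV hNQ)
    have t3 : ⁅⁅Q, zpowers n⁆, V⁆ = ⊥ := commutator_commutator_eq_bot_of_rotate t1 t2
    have t4 : ⁅Q, zpowers n⁆ ≤ Q ⊓ V := by
      refine le_inf (Lib.CoprimeCommutator.commutator_le_left hNQ) ?_
      rw [commutator_eq_bot_iff_le_centralizer] at t3
      exact t3.trans hCV
    intro x hx
    have h1 := t4 (commutator_mem_commutator hx (mem_zpowers n))
    rw [hQV, mem_bot, commutatorElement_eq_one_iff_mul_comm] at h1
    exact h1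
  · -- `p = 2`
    intro x hx
    by_contra hxn
    rw [not_not] at hp2
    have h4 : ¬ Cfsg.Involves (Equiv.Perm (Fin 4)) Y := by
      rcases h with h | h
      · exact absurd hp2 h
      · exact h
    have hV2 : ∀ v : V, v * v = 1 := by
      intro v
      apply Subtype.ext
      have h1 := hV.2 v v.2
      rw [hp2, pow_two] at h1
      exact h1
    letI : CommGroup V := { (inferInstance : Group V) with mul_comm := hV.1.is_comm.comm }
    let φ : Y →* MulAut V := MulAut.conjNormal (H := V)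
    have hφ : ∀ (g : Y) (v : V), ((φ g v : V) : Y) = g * v * g⁻¹ := fun g v => rfl
    have hS3 : PLocal.SFourOffender.NoS3 φ :=
      PLocal.S4FreeNoS3.noS3_of_normal h4 hV2 (MulEquiv.refl V) φ (fun _ _ => rfl)
    have hyQ : ⁅x, n⁆ ∈ Q := by
      have h2 : ⁅x, n⁆ = x * (n * x⁻¹ * n⁻¹) := by simp only [commutatorElement_def]; group
      rw [h2]
      exact mul_mem hx ((mem_normalizer_iff.mp hnQ _).mp (inv_mem hx))
    have hy1 : ⁅x, n⁆ ≠ 1 := by
      intro h1
      rw [commutatorElement_eq_one_iff_mul_comm] at h1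
      exact hxn h1
    set c : Y := a ^ p with hc
    have hτ : ∀ v : V, φ n v = v ∨ φ n v = v * ⟨c, hapV⟩ := by
      intro v
      obtain ⟨i, hi⟩ := mem_zpowers_iff.mp (hVaT v v.2)
      have h1 : ((φ n v : V) : Y) = (v : Y) * (c ^ i)⁻¹ := by
        rw [hφ, hVn' v v.2, hi]
        have h2 : a * (v : Y) * a⁻¹ = ⁅(v : Y), a⁆⁻¹ * v := by
          simp only [commutatorElement_def]; group
        rw [h2]
        exact hVc _ (inv_mem (haV' v v.2)) v v.2
      have hc2 : c * c = 1 := congrArg Subtype.val (hV2 ⟨c, hapV⟩)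
      rcases Int.even_or_odd' i with ⟨j, hj | hj⟩
      · left
        apply Subtype.ext
        rw [h1, hj, zpow_mul, zpow_two, hc2, one_zpow, inv_one, mul_one]
      · right
        apply Subtype.ext
        rw [h1, hj, zpow_add, zpow_mul, zpow_two, hc2, one_zpow, one_mul, zpow_one,
          inv_eq_of_mul_eq_one_left hc2]
        rfl
    have hτc : φ n ⟨c, hapV⟩ = ⟨c, hapV⟩ := by
      apply Subtype.ext
      rw [hφ, hVn' c hapV]
      have : a * c = c * a := ((Commute.refl a).pow_right p).eq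
      show a * c * a⁻¹ = c
      rw [this]; group
    have hd : x * c * x⁻¹ ∈ V := hconj c hapV x
    set m : Y := x * n * x⁻¹ with hm
    have hφm : ∀ v, φ m v = φ x (φ n (φ x⁻¹ v)) := by
      intro v
      rw [hm, map_mul, map_mul, MulAut.mul_apply, MulAut.mul_apply]
    have hxx : ∀ v, φ x (φ x⁻¹ v) = v := by
      intro v
      rw [← MulAut.mul_apply, ← map_mul, mul_inv_cancel, map_one, MulAut.one_apply]
    have hφd : φ x ⟨c, hapV⟩ = ⟨x * c * x⁻¹, hd⟩ := rfl
    have hσ : ∀ v : V, φ m v = v ∨ φ m v = v * ⟨x * c * x⁻¹, hd⟩ := by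
      intro v
      rcases hτ (φ x⁻¹ v) with h1 | h1
      · left; rw [hφm, h1, hxx]
      · right; rw [hφm, h1, map_mul, hxx, hφd]
    have hσd : φ m ⟨x * c * x⁻¹, hd⟩ = ⟨x * c * x⁻¹, hd⟩ := by
      have h2 : φ x⁻¹ ⟨x * c * x⁻¹, hd⟩ = ⟨c, hapV⟩ := by
        rw [← hφd, ← MulAut.mul_apply, ← map_mul, inv_mul_cancel, map_one, MulAut.one_apply]
      rw [hφm, h2, hτc, hφd]
    have hcard : ∀ k : ℕ, φ (⁅x, n⁆ ^ k) = 1 → ⁅x, n⁆ ^ k = 1 := by
      intro k hk
      have h1 : ⁅x, n⁆ ^ k ∈ Q ⊓ V := by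
        refine ⟨pow_mem hyQ k, hCV ?_⟩
        rw [mem_centralizer_iff]
        intro v hv
        have h2 : φ (⁅x, n⁆ ^ k) ⟨v, hv⟩ = ⟨v, hv⟩ := by rw [hk, MulAut.one_apply]
        have h3 := congrArg Subtype.val h2
        rw [hφ] at h3
        calc v * ⁅x, n⁆ ^ k = (⁅x, n⁆ ^ k * v * (⁅x, n⁆ ^ k)⁻¹) * ⁅x, n⁆ ^ k := by
              rw [show (⁅x, n⁆ ^ k * v * (⁅x, n⁆ ^ k)⁻¹) = v from h3]
          _ = ⁅x, n⁆ ^ k * v := by group
      rw [hQV, mem_bot] at h1
      exact h1
    have hτ2 : φ n * φ n = 1 := by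
      ext v
      rw [MulAut.mul_apply, MulAut.one_apply]
      have hc2 : (⟨c, hapV⟩ : V) * ⟨c, hapV⟩ = 1 := hV2 ⟨c, hapV⟩
      rcases hτ v with h1 | h1
      · rw [h1, h1]
      · rw [h1, map_mul, h1, hτc, mul_assoc, hc2, mul_one]
    have hne : (φ m * φ n) ^ 4 ≠ 1 := by
      intro h4
      have h1 : φ m * φ n = φ ⁅x, n⁆ := by
        have h2 : φ n = (φ n)⁻¹ := (inv_eq_of_mul_eq_one_left hτ2).symm
        have h3 : ⁅x, n⁆ = m * n⁻¹ := by simp only [hm, commutatorElement_def]
        calc φ m * φ n = φ m * (φ n)⁻¹ := by rw [← h2]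
          _ = φ m * φ n⁻¹ := by rw [map_inv φ n]
          _ = φ (m * n⁻¹) := (map_mul φ m n⁻¹).symm
          _ = φ ⁅x, n⁆ := by rw [h3]
      rw [h1, ← map_pow] at h4
      have h5 := hcard 4 h4
      apply hy1
      have h6 : orderOf ⁅x, n⁆ ∣ 4 := orderOf_dvd_of_pow_eq_one h5
      have h7 : orderOf ⁅x, n⁆ ∣ Nat.card Q := Lib.CoprimeStab.orderOf_dvd_natCard_of_mem hyQ
      have h8 : (Nat.card Q).Coprime 4 := by
        rw [hp2] at hQp
        exact Nat.Coprime.pow_right 2 hQp
      have h9 : orderOf ⁅x, n⁆ ∣ 1 := by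
        rw [← Nat.Coprime.gcd_eq_one h8]
        exact Nat.dvd_gcd h7 h6
      rw [Nat.dvd_one, orderOf_eq_one_iff] at h9
      exact h9
    obtain ⟨hc1, hd1, hcd, e1, e2⟩ := two_transvections hV2 (φ n) (φ m) ⟨c, hapV⟩
      ⟨x * c * x⁻¹, hd⟩ hτ hσ hτc hσd hne
    exact PLocal.SFourOffender.not_noS3 (φ := φ) (v := ⟨c, hapV⟩) (w := ⟨x * c * x⁻¹, hd⟩)
      (a := m) (b := n) (hV2 _) (hV2 _) hc1 hd1 hcd e1 hσd e2 hτc hS3

end Core

end Cfsg.Agent.H440.CyclicNormal
end

-- part: H440/CyclicNormalMain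
section
/-!
# Cyclic normal subgroups of Sylow `p`-subgroups of `p`-solvable groups
-/

set_option autoImplicit false
set_option linter.style.haveILetI false

namespace Cfsg.Agent.H440.CyclicNormalMain

open Subgroup
open scoped commutatorElement
open Cfsg.Agent.SignalizersComponents.GoldschmidtGen (le_normalizer_of_conj_mem
  conj_mem_of_le_normalizer le_normalizer_sup le_normalizer_of_commutator_le)
open Cfsg.Agent.H440.MinimalAction (frat frat_le commutator_le_frat pow_mem_frat)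

universe u

variable {X : Type u} [Group X]

/-- A finite group all of whose elements of order prime to `p` are trivial is a `p`-group. -/
theorem isPGroup_of_coprime [Finite X] {p : ℕ} [hp : Fact p.Prime] {C : Subgroup X}
    (h : ∀ x ∈ C, (orderOf x).Coprime p → x = 1) : IsPGroup p C := by
  intro x
  refine ⟨(orderOf (x : X)).factorization p, ?_⟩
  apply Subtype.ext
  rw [Subgroup.coe_pow, Subgroup.coe_one]
  apply h _ (C.pow_mem x.2 _)
  rw [orderOf_pow' (x : X) (pow_ne_zero _ hp.out.ne_zero)]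
  have h1 : Nat.gcd (orderOf (x : X)) (p ^ (orderOf (x : X)).factorization p) =
      p ^ (orderOf (x : X)).factorization p := Nat.gcd_eq_right (Nat.ordProj_dvd _ _)
  rw [h1]
  exact (Nat.coprime_ordCompl hp.out (orderOf_pos (x : X)).ne').symm

variable [Finite X] {p : ℕ} [hp : Fact p.Prime]

/-- If `C_X(O_p(X)) ≤ O_p(X)`, the elements centralising `O_p(X)` modulo its Frattini subgroup are
in `O_p(X)`. -/
theorem mem_pCore_of_frattini (hC : centralizer (Cfsg.pCore p X : Set X) ≤ Cfsg.pCore p X) {x : X}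
    (hx : ∀ o ∈ Cfsg.pCore p X, ⁅x, o⁆ ∈ frat (Cfsg.pCore p X)) : x ∈ Cfsg.pCore p X := by
  haveI hOn : (Cfsg.pCore p X).Normal := Lib.Cores.pCore_normal p
  set O := Cfsg.pCore p X with hO
  have hOp : IsPGroup p O := Lib.Cores.pCore_isPGroup p
  have hFn : (frat O).Normal := by
    rw [← normalizer_eq_top_iff, eq_top_iff]
    have h1 : (⊤ : Subgroup X) ≤ normalizer (O : Set X) := by rw [normalizer_eq_top]
    exact MinimalAction.le_normalizer_frat h1
  let C : Subgroup X :=
    { carrier := {x | ∀ o ∈ O, ⁅x, o⁆ ∈ frat O}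
      one_mem' := fun o _ => by simp
      mul_mem' := by
        intro x y hx hy o ho
        have h1 : ⁅x * y, o⁆ = x * ⁅y, o⁆ * x⁻¹ * ⁅x, o⁆ := by
          simp only [commutatorElement_def]; group
        rw [h1]
        exact mul_mem (hFn.conj_mem _ (hy o ho) x) (hx o ho)
      inv_mem' := by
        intro x hx o ho
        have h1 : ⁅x⁻¹, o⁆ = x⁻¹ * ⁅x, o⁆⁻¹ * x⁻¹⁻¹ := by
          simp only [commutatorElement_def]; group
        rw [h1]
        exact hFn.conj_mem _ (inv_mem (hx o ho)) _ }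
  have hCn : C.Normal := by
    refine ⟨fun n hn g o ho => ?_⟩
    have h1 : ⁅g * n * g⁻¹, o⁆ = g * ⁅n, g⁻¹ * o * g⁻¹⁻¹⁆ * g⁻¹ := by
      simp only [commutatorElement_def]; group
    rw [h1]
    exact hFn.conj_mem _ (hn _ (hOn.conj_mem o ho g⁻¹)) g
  have hCp : IsPGroup p C := by
    apply isPGroup_of_coprime
    intro y hy hyp
    have h1 : zpowers y ≤ centralizer (O : Set X) := by
      refine S0029.result (zpowers y) O (by rw [normalizer_eq_top]; exact le_top) ?_ ?_
      · rw [Nat.card_zpowers]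
        obtain ⟨k, hk⟩ := IsPGroup.iff_card.mp (hOp.to_subgroup (frattini ↥O))
        rw [hk]
        exact Nat.Coprime.pow_right k hyp
      · intro a ha k hk
        have ha' : a ∈ C := (zpowers_le.mpr hy) ha
        have := ha' k hk
        rwa [commutatorElement_def] at this
    have h2 : y ∈ O := hC (h1 (mem_zpowers y))
    obtain ⟨k, hk⟩ := hOp ⟨y, h2⟩
    have h3 : y ^ p ^ k = 1 := by simpa using congrArg Subtype.val hk
    have h4 : orderOf y ∣ p ^ k := orderOf_dvd_of_pow_eq_one h3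
    have h5 : orderOf y = 1 := Nat.eq_one_of_dvd_coprimes (Nat.Coprime.pow_right k hyp) dvd_rfl h4
    exact orderOf_eq_one_iff.mp h5
  exact Lib.Cores.le_pCore hCn hCp hx

/-- The case `O_{p'}(X) = 1`. -/
theorem le_pCore (hX : Cfsg.IsPSolvable p X) (hO' : Cfsg.pPrimeCore p X = ⊥) (P : Sylow p X)
    (A : Subgroup X) (hAP : A ≤ (P : Subgroup X)) (hAn : (P : Subgroup X) ≤ normalizer (A : Set X))
    (hA : IsCyclic A) (h : p ≠ 2 ∨ ¬ Cfsg.Involves (Equiv.Perm (Fin 4)) X) :
    A ≤ Cfsg.pCore p X := by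
  classical
  have hCO : centralizer (Cfsg.pCore p X : Set X) ≤ Cfsg.pCore p X :=
    PLocal.Constrained.centralizer_pCore_le hO' (PLocal.PSolvable.isPSolvable_subgroup hX _)
  haveI hOn : (Cfsg.pCore p X).Normal := Lib.Cores.pCore_normal p
  have hmemO := fun x => mem_pCore_of_frattini (p := p) (X := X) hCO (x := x)
  set O := Cfsg.pCore p X with hO
  have hOp : IsPGroup p O := Lib.Cores.pCore_isPGroup p
  have hOP : O ≤ (P : Subgroup X) := Lib.Cores.pCore_le_sylow P
  haveI hFn : (frat O).Normal := by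
    rw [← normalizer_eq_top_iff, eq_top_iff]
    have h1 : (⊤ : Subgroup X) ≤ normalizer (O : Set X) := by rw [normalizer_eq_top]
    exact MinimalAction.le_normalizer_frat h1
  -- the generator
  obtain ⟨g₀, hg₀⟩ := hA.exists_generator
  set a : X := (g₀ : X) with ha
  have haA : a ∈ A := g₀.2
  have hAa : ∀ x ∈ A, x ∈ zpowers a := by
    intro x hx
    obtain ⟨k, hk⟩ := mem_zpowers_iff.mp (hg₀ ⟨x, hx⟩)
    rw [mem_zpowers_iff]
    exact ⟨k, by simpa using congrArg Subtype.val hk⟩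
  suffices haO : a ∈ O by
    intro x hx
    exact (zpowers_le.mpr haO) (hAa x hx)
  -- the complement `Q`
  let K : Subgroup X := (Cfsg.pPrimeCore p (X ⧸ O)).comap (QuotientGroup.mk' O)
  haveI hKn' : (Cfsg.pPrimeCore p (X ⧸ O)).Normal := Lib.Cores.pPrimeCore_normal p
  have hKn : K.Normal := hKn'.comap _
  have hOK : O ≤ K := by
    intro x hx
    show QuotientGroup.mk' O x ∈ Cfsg.pPrimeCore p (X ⧸ O)
    have : QuotientGroup.mk' O x = 1 := (QuotientGroup.eq_one_iff x).mpr hx
    rw [this]; exact one_mem _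
  haveI hOKn : (O.subgroupOf K).Normal := inferInstance
  have hKmap : K.map (QuotientGroup.mk' O) = Cfsg.pPrimeCore p (X ⧸ O) :=
    map_comap_eq_self_of_surjective (QuotientGroup.mk'_surjective O) _
  have hidx : (O.subgroupOf K).index = Nat.card (Cfsg.pPrimeCore p (X ⧸ O)) := by
    have h1 := relIndex_ker (K := K) (QuotientGroup.mk' O)
    rw [QuotientGroup.ker_mk', hKmap] at h1
    exact h1
  have hcopO : ∀ m : ℕ, m.Coprime p → m.Coprime (Nat.card O) := by
    intro m hm
    obtain ⟨k, hk⟩ := IsPGroup.iff_card.mp hOp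
    rw [hk]; exact Nat.Coprime.pow_right k hm
  have hcop : (Nat.card (O.subgroupOf K)).Coprime (O.subgroupOf K).index := by
    rw [hidx, Nat.card_congr (subgroupOfEquivOfLe hOK).toEquiv]
    exact (hcopO _ (Lib.Cores.pPrimeCore_coprime p)).symm
  obtain ⟨Q₀, hQ₀⟩ := exists_right_complement'_of_coprime hcop
  set Q : Subgroup X := Q₀.map K.subtype with hQ
  have hQK : Q ≤ K := map_subtype_le _
  have hQcard : Nat.card Q = Nat.card (Cfsg.pPrimeCore p (X ⧸ O)) := by
    rw [← hidx, hQ₀.symm.index_eq_card]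
    exact Nat.card_congr (Q₀.equivMapOfInjective K.subtype K.subtype_injective).toEquiv.symm
  have hQp : (Nat.card Q).Coprime p := by
    rw [hQcard]; exact Lib.Cores.pPrimeCore_coprime p
  have hQO : Q ⊔ O = K := by
    have h1 := hQ₀.sup_eq_top
    have h2 := congrArg (fun S => S.map K.subtype) h1
    simp only [Subgroup.map_sup, subgroupOf_map_subtype, ← MonoidHom.range_eq_map, range_subtype] at h2
    rw [inf_eq_left.mpr hOK, sup_comm] at h2
    exact h2
  have hnO : ∀ S : Subgroup X, S ≤ normalizer (O : Set X) := fun S => by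
    rw [normalizer_eq_top]; exact le_top
  have hOs : Group.IsSolvable O := by
    haveI := hOp.isNilpotent
    infer_instance
  -- `a = o n`
  obtain ⟨o, ho, hoQ⟩ := Solvable.Glauberman.exists_conj_of_le_sup Q O (hnO Q) (hcopO _ hQp)
    (Or.inr hOs) (Q.map (MulAut.conj a).toMonoidHom) (by
      rw [hQO]
      rintro _ ⟨q, hq, rfl⟩
      exact hKn.conj_mem q (hQK hq) a) (by
      exact Nat.card_congr (Q.equivMapOfInjective _ (MulAut.conj a).injective).toEquiv.symm)
  set n : X := o⁻¹ * a with hn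
  have hao : a = o * n := by rw [hn]; group
  have hnQ : n ∈ normalizer (Q : Set X) := by
    have hle : ∀ q ∈ Q, n * q * n⁻¹ ∈ Q := by
      intro q hq
      have h1 : a * q * a⁻¹ ∈ Q.map (MulAut.conj a).toMonoidHom := ⟨q, hq, rfl⟩
      have h2 : Q.map (MulAut.conj a).toMonoidHom = Q.map (MulAut.conj o).toMonoidHom := hoQ.symm
      rw [h2] at h1
      obtain ⟨r, hr, hr'⟩ := h1
      have h3 : o * r * o⁻¹ = a * q * a⁻¹ := hr'
      have h4 : n * q * n⁻¹ = r := by
        calc n * q * n⁻¹ = o⁻¹ * (a * q * a⁻¹) * o := by rw [hn]; group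
          _ = o⁻¹ * (o * r * o⁻¹) * o := by rw [h3]
          _ = r := by group
      rw [h4]; exact hr
    rw [mem_normalizer_iff]
    intro q
    constructor
    · exact hle q
    · intro hq
      have h1 : Q.map (MulAut.conj n).toMonoidHom = Q := by
        apply eq_of_le_of_card_ge
        · rintro _ ⟨q, hq, rfl⟩
          exact hle q hq
        · exact (Nat.card_congr (Q.equivMapOfInjective _ (MulAut.conj n).injective).toEquiv).le
      have h2 : n * q * n⁻¹ ∈ Q.map (MulAut.conj n).toMonoidHom := by rw [h1]; exact hq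
      obtain ⟨r, hr, hr'⟩ := h2
      have h3 : n * r * n⁻¹ = n * q * n⁻¹ := hr'
      have h4 : r = q := by
        have := congrArg (fun z => n⁻¹ * z * n) h3
        simpa [mul_assoc] using this
      rw [← h4]; exact hr
  -- the quotient `X / Φ(O)`
  let π : X →* X ⧸ frat O := QuotientGroup.mk' (frat O)
  have hπs : Function.Surjective π := QuotientGroup.mk'_surjective _
  have hπ1 : ∀ x : X, π x = 1 ↔ x ∈ frat O := fun x => QuotientGroup.eq_one_iff x
  have hFO : frat O ≤ O := frat_le O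
  haveI hVn : (O.map π).Normal := hOn.map π hπs
  have hV : Cfsg.IsElementaryAbelian p (O.map π) := by
    refine ⟨⟨⟨?_⟩⟩, ?_⟩
    · rintro ⟨_, x, hx, rfl⟩ ⟨_, y, hy, rfl⟩
      apply Subtype.ext
      show π x * π y = π y * π x
      rw [← commutatorElement_eq_one_iff_mul_comm, ← map_commutatorElement, hπ1]
      exact commutator_le_frat hOp (commutator_mem_commutator hx hy)
    · rintro _ ⟨x, hx, rfl⟩
      rw [← map_pow, hπ1]
      exact pow_mem_frat hOp hx
  have hCV : centralizer ((O.map π : Subgroup _) : Set (X ⧸ frat O)) ≤ O.map π := by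
    intro y hy
    obtain ⟨x, rfl⟩ := hπs y
    refine ⟨x, hmemO x fun u hu => ?_, rfl⟩
    rw [← hπ1, map_commutatorElement, commutatorElement_eq_one_iff_mul_comm]
    exact (mem_centralizer_iff.mp hy (π u) ⟨u, hu, rfl⟩).symm
  have hQp' : (Nat.card (Q.map π)).Coprime p :=
    Nat.Coprime.coprime_dvd_left (card_map_dvd Q π) hQp
  have hnQ' : π n ∈ normalizer ((Q.map π : Subgroup _) : Set (X ⧸ frat O)) := by
    have hle : (zpowers n).map π ≤ normalizer ((Q.map π : Subgroup _) : Set (X ⧸ frat O)) := by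
      apply le_normalizer_of_conj_mem
      rintro _ ⟨m, hm, rfl⟩ _ ⟨q, hq, rfl⟩
      refine ⟨m * q * m⁻¹, ?_, by rw [map_mul, map_mul, map_inv]⟩
      exact conj_mem_of_le_normalizer (zpowers_le.mpr hnQ) hm hq
    exact hle ⟨n, mem_zpowers n, rfl⟩
  have hVa : ∀ v ∈ O.map π, ⁅v, π a⁆ ∈ zpowers (π a) := by
    rintro _ ⟨u, hu, rfl⟩
    have h1 : ⁅u, a⁆ ∈ A := by
      rw [commutatorElement_def]
      exact mul_mem (conj_mem_of_le_normalizer hAn (hOP hu) haA) (inv_mem haA)
    obtain ⟨k, hk⟩ := mem_zpowers_iff.mp (hAa _ h1)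
    rw [← map_commutatorElement, ← hk, map_zpow]
    exact zpow_mem (mem_zpowers _) k
  have h' : p ≠ 2 ∨ ¬ Cfsg.Involves (Equiv.Perm (Fin 4)) (X ⧸ frat O) := by
    rcases h with h | h
    · exact Or.inl h
    · right
      intro hinv
      apply h
      have h1 : Lib.Involves.Involves (X ⧸ frat O) (Equiv.Perm (Fin 4)) :=
        Lib.Involves.involves_iff.mpr hinv
      exact Lib.Involves.involves_iff.mp (Lib.Involves.of_quotient h1)
  have hcore := CyclicNormal.core (p := p) (V := O.map π) (Q := Q.map π) hV hCV hQp'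
    (a := π a) (n := π n) (o := π o) ⟨o, ho, rfl⟩ (by rw [← map_mul, ← hao]) hnQ' hVa h'
  have hQn : ∀ q ∈ Q, ⁅q, n⁆ ∈ O := by
    intro q hq
    apply hFO
    rw [← hπ1, map_commutatorElement, commutatorElement_eq_one_iff_mul_comm]
    exact hcore (π q) ⟨q, hq, rfl⟩
  -- conclusion in `X / O`
  let ρ : X →* X ⧸ O := QuotientGroup.mk' O
  have hρ1 : ∀ x : X, ρ x = 1 ↔ x ∈ O := fun x => QuotientGroup.eq_one_iff x
  have hρo : ρ o = 1 := (hρ1 o).mpr ho
  have hρa : ρ a = ρ n := by
    conv_lhs => rw [hao]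
    rw [map_mul, hρo, one_mul]
  have hcent : ρ a ∈ centralizer (Cfsg.pPrimeCore p (X ⧸ O) : Set (X ⧸ O)) := by
    rw [mem_centralizer_iff, ← hKmap]
    rintro _ ⟨k, hk, rfl⟩
    have hk' : k ∈ Q ⊔ O := by rw [hQO]; exact hk
    rw [sup_comm, Cfsg.Agent.SignalizersComponents.CoprimeBasic.mem_sup_iff (hnO Q)] at hk'
    obtain ⟨u, hu, q, hq, rfl⟩ := hk'
    have h1 : ρ (u * q) = ρ q := by rw [map_mul, (hρ1 u).mpr hu, one_mul]
    show ρ (u * q) * ρ a = ρ a * ρ (u * q)
    rw [h1, hρa, ← commutatorElement_eq_one_iff_mul_comm, ← map_commutatorElement, hρ1]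
    exact hQn q hq
  have hO1 : Cfsg.pCore p (X ⧸ O) = ⊥ := Lib.Cores.pCore_quotient_pCore p
  have h3 := PLocal.HallHigmanPrime.centralizer_pPrimeCore_le_of_pSolvable p
    (PLocal.PSolvable.isPSolvable_quotient hX O) hO1 hcent
  -- `ρ a` is a `p`-element of a `p'`-group
  obtain ⟨k, hk⟩ := P.isPGroup' ⟨a, hAP haA⟩
  have hk' : a ^ p ^ k = 1 := by simpa using congrArg Subtype.val hk
  have h4 : orderOf (ρ a) ∣ p ^ k := orderOf_dvd_of_pow_eq_one (by rw [← map_pow, hk', map_one])
  have h5 : orderOf (ρ a) ∣ Nat.card (Cfsg.pPrimeCore p (X ⧸ O)) :=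
    Lib.CoprimeStab.orderOf_dvd_natCard_of_mem h3
  have h6 : orderOf (ρ a) = 1 := Nat.eq_one_of_dvd_coprimes
    (Nat.Coprime.pow_right k (Lib.Cores.pPrimeCore_coprime p)) h5 h4
  rw [← hρ1]
  exact orderOf_eq_one_iff.mp h6

end Cfsg.Agent.H440.CyclicNormalMain
end
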